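import Groth.Prelude.Def_GSzMilK
import Mathlib.LinearAlgebra.Multilinear.Curry
import Mathlib.GroupTheory.Perm.Sign

/-! Basic identities in Milnor K-groups. -/

set_option autoImplicit false

universe u v w

namespace MilKLib

open MilK

variable {F : Type u} [Field F] {M : Type w} [AddCommGroup M]

/-- The symbol as a multilinear map. -/
noncomputable def symML (n : ℕ) : MultilinearMap ℤ (fun _ : Fin n => Additive Fˣ) (K F n) :=
  (MilK.mk F n).toIntLinearMap.compMultilinearMap (PiTensorProduct.tprod ℤ)

theorem symML_apply {n : ℕ} (x : Fin n → Fˣ) : symML n (fun i => Additive.ofMul (x i)) = symbol x := rfl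

theorem symML_apply' {n : ℕ} (x : Fin n → Additive Fˣ) : symML n x = symbol fun i => (x i).toMul := rfl

theorem hom_ext {n : ℕ} {f g : K F n →+ M} (h : ∀ x : Fin n → Fˣ, f (symbol x) = g (symbol x)) : f = g := by
  refine AddMonoidHom.ext fun z => ?_
  obtain ⟨t, rfl⟩ := MilK.mk_surjective F n z
  induction t using PiTensorProduct.induction_on with
  | smul_tprod r x => rw [map_zsmul, map_zsmul, map_zsmul, mk_tprod, h]
  | add s t hs ht => rw [map_add, map_add, map_add, hs, ht]

theorem mem_of_symbols {n : ℕ} {S : AddSubgroup (K F n)} (h : ∀ x : Fin n → Fˣ, symbol x ∈ S) (z : K F n) :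
    z ∈ S := by
  obtain ⟨t, rfl⟩ := MilK.mk_surjective F n z
  induction t using PiTensorProduct.induction_on with
  | smul_tprod r x => rw [map_zsmul, mk_tprod]; exact S.zsmul_mem (h _) r
  | add s t hs ht => rw [map_add]; exact S.add_mem hs ht

theorem closure_symbols (n : ℕ) : AddSubgroup.closure (Set.range (symbol : (Fin n → Fˣ) → K F n)) = ⊤ :=
  eq_top_iff.mpr fun z _ => mem_of_symbols (fun x => AddSubgroup.subset_closure (Set.mem_range_self x)) z

theorem isSteinberg_cons {n : ℕ} (a : Fˣ) {x : Fin n → Fˣ} (h : IsSteinberg F x) :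
    IsSteinberg F (Fin.cons a x : Fin (n + 1) → Fˣ) := by
  obtain ⟨i, j, hij, h⟩ := h
  exact ⟨Fin.succ i, Fin.succ j, Fin.succ_lt_succ_iff.mpr hij, by simpa using h⟩

theorem ofMul_cons {n : ℕ} (a : Fˣ) (x : Fin n → Fˣ) :
    (Fin.cons (Additive.ofMul a) (fun i => Additive.ofMul (x i)) : Fin (n + 1) → Additive Fˣ) =
      fun i => Additive.ofMul ((Fin.cons a x : Fin (n + 1) → Fˣ) i) :=
  funext fun i => by cases i using Fin.cases <;> simp

/-- Left multiplication by a degree-one symbol. -/
noncomputable def consH (n : ℕ) : Additive Fˣ →+ K F n →+ K F (n + 1) :=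
  AddMonoidHom.mk' (fun a => MilK.lift ((symML (n + 1)).curryLeft a) fun x hx => by
      rw [MultilinearMap.curryLeft_apply, ← ofMul_toMul a, ofMul_cons, symML_apply]
      exact symbol_eq_zero_of_isSteinberg _ (isSteinberg_cons _ hx))
    fun a b => hom_ext fun x => by simp [map_add]

/-- `z ↦ {a} · z`. -/
noncomputable def cons {n : ℕ} (a : Fˣ) : K F n →+ K F (n + 1) := consH n (Additive.ofMul a)

@[simp]
theorem cons_symbol {n : ℕ} (a : Fˣ) (x : Fin n → Fˣ) :
    cons a (symbol x) = symbol (Fin.cons a x : Fin (n + 1) → Fˣ) := by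
  show (MilK.lift ((symML (n + 1)).curryLeft (Additive.ofMul a)) _) (symbol x) = _
  rw [lift_symbol, MultilinearMap.curryLeft_apply, ofMul_cons, symML_apply]

theorem cons_mul {n : ℕ} (a b : Fˣ) (z : K F n) : cons (a * b) z = cons a z + cons b z := by
  rw [cons, ofMul_mul, map_add]; rfl

@[simp]
theorem cons_one {n : ℕ} (z : K F n) : cons (1 : Fˣ) z = 0 := by
  rw [cons, ofMul_one, map_zero]; rfl

theorem cons_inv {n : ℕ} (a : Fˣ) (z : K F n) : cons a⁻¹ z = -cons a z := by
  rw [cons, ofMul_inv, map_neg]; rfl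

theorem cons_div {n : ℕ} (a b : Fˣ) (z : K F n) : cons (a / b) z = cons a z - cons b z := by
  rw [div_eq_mul_inv, cons_mul, cons_inv, sub_eq_add_neg]

theorem cons_zpow {n : ℕ} (a : Fˣ) (e : ℤ) (z : K F n) : cons (a ^ e) z = e • cons a z := by
  rw [cons, ofMul_zpow, map_zsmul]; rfl

theorem cons_cons_eq_zero {n : ℕ} {a b : Fˣ} (h : (a : F) + b = 1) (z : K F n) : cons a (cons b z) = 0 := by
  have : (cons a).comp (cons b) = (0 : K F n →+ K F (n + 1 + 1)) := hom_ext fun x => by
    rw [AddMonoidHom.comp_apply, cons_symbol, cons_symbol, AddMonoidHom.zero_apply]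
    exact symbol_eq_zero_of_isSteinberg _ ⟨0, 1, Fin.zero_lt_one, by simpa using h⟩
  exact DFunLike.congr_fun this z

theorem cons_cons_neg {n : ℕ} (a : Fˣ) (z : K F n) : cons a (cons (-a) z) = 0 := by
  by_cases ha : (a : F) = 1
  · rw [Units.val_eq_one.mp ha, cons_one]
  have h1 : (1 : F) - a ≠ 0 := sub_ne_zero.mpr (Ne.symm ha)
  have h2 : (1 : F) - (↑a⁻¹ : F) ≠ 0 := sub_ne_zero.mpr fun h => ha (by
    rw [Units.val_inv_eq_inv_val] at h
    exact inv_eq_one.mp h.symm)
  have e : -a = Units.mk0 _ h1 / Units.mk0 _ h2 := by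
    rw [eq_div_iff_mul_eq']
    refine Units.ext ?_
    simp only [Units.val_mul, Units.val_neg, Units.val_mk0, Units.val_inv_eq_inv_val]
    field_simp
    ring
  have z1 : cons a (cons (Units.mk0 _ h1) z) = 0 := cons_cons_eq_zero (by simp) z
  have z2 : cons a⁻¹ (cons (Units.mk0 _ h2) z) = 0 := cons_cons_eq_zero (by simp) z
  rw [cons_inv, neg_eq_zero] at z2
  rw [e, cons_div, map_sub, z1, z2, sub_zero]

theorem cons_neg_cons {n : ℕ} (a : Fˣ) (z : K F n) : cons (-a) (cons a z) = 0 := by
  simpa using cons_cons_neg (-a) z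

theorem cons_cons_comm {n : ℕ} (a b : Fˣ) (z : K F n) : cons a (cons b z) = -cons b (cons a z) := by
  have h := cons_cons_neg (a * b) z
  have e1 : -(a * b) = -a * b := (neg_mul a b).symm
  have e2 : -(a * b) = a * -b := (mul_neg a b).symm
  rw [cons_mul] at h
  nth_rw 1 [e1] at h
  rw [e2] at h
  simp only [cons_mul, map_add, cons_cons_neg, zero_add, add_zero] at h
  exact eq_neg_of_add_eq_zero_left h

theorem cons_cons_self {n : ℕ} (a : Fˣ) (z : K F n) : cons a (cons a z) = cons a (cons (-1) z) := by
  conv_lhs => arg 2; arg 1; rw [show a = -1 * -a by simp]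
  rw [cons_mul, map_add, cons_cons_neg, add_zero]

theorem cons_neg_one_add_self {n : ℕ} (z : K F n) : cons (-1 : Fˣ) z + cons (-1 : Fˣ) z = 0 := by
  rw [← cons_mul, neg_one_mul, neg_neg, cons_one]

theorem cons_cons_identity {n : ℕ} (b c s : Fˣ) (h : (b : F) + c = s) (z : K F n) :
    cons b (cons c z) + cons s (cons (-(b / c)) z) = 0 := by
  have h0 := cons_cons_eq_zero (a := b / s) (b := c / s) (by
    simp only [Units.val_div_eq_div_val, ← add_div, h, div_self s.ne_zero]) z
  rw [cons_div c s, map_sub, cons_div b s, cons_div b s, cons_cons_self s, cons_cons_comm b s] at h0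
  rw [show -(b / c) = -1 * (b / c) by simp, cons_mul, cons_div, map_add, map_sub]
  linear_combination (norm := abel) h0

theorem swap01 {n : ℕ} (x : Fin (n + 2) → Fˣ) : symbol (x ∘ Equiv.swap 0 1) + symbol x = 0 := by
  have hx : x = Fin.cons (x 0) (Fin.cons (x 1) (Fin.tail (Fin.tail x))) := by
    funext i
    refine Fin.cases ?_ (fun j => ?_) i
    · simp
    · refine Fin.cases ?_ (fun l => ?_) j <;> simp [Fin.tail]
  have hy : x ∘ Equiv.swap 0 1 = Fin.cons (x 1) (Fin.cons (x 0) (Fin.tail (Fin.tail x))) := by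
    funext i
    refine Fin.cases ?_ (fun j => ?_) i
    · simp
    · refine Fin.cases ?_ (fun l => ?_) j
      · simp
      · simp [Fin.tail, Equiv.swap_apply_of_ne_of_ne, Fin.succ_ne_zero, Fin.ext_iff]
  rw [hy]
  conv_lhs => arg 2; rw [hx]
  rw [← cons_symbol, ← cons_symbol, ← cons_symbol (x 0), ← cons_symbol, cons_cons_comm, neg_add_cancel]

theorem symbol_swap : ∀ {n : ℕ} (x : Fin n → Fˣ) {i j : Fin n}, i ≠ j →
    symbol (x ∘ Equiv.swap i j) = -symbol x := by
  intro n
  induction n with
  | zero => intro x i; exact i.elim0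
  | succ n ih =>
    have hsucc : ∀ (x : Fin (n + 1) → Fˣ) (i j : Fin n), i ≠ j →
        symbol (x ∘ Equiv.swap i.succ j.succ) = -symbol x := by
      intro x i j hij
      have e : x ∘ Equiv.swap i.succ j.succ = Fin.cons (x 0) (Fin.tail x ∘ Equiv.swap i j) := by
        funext l
        refine Fin.cases ?_ (fun l => ?_) l
        · simp [Equiv.swap_apply_of_ne_of_ne (Fin.succ_ne_zero i).symm (Fin.succ_ne_zero j).symm]
        · simp only [Function.comp_apply, Fin.cons_succ, Fin.tail]
          rw [(Fin.succ_injective n).swap_apply]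
      rw [e, ← cons_symbol, ih _ hij, map_neg, cons_symbol, Fin.cons_self_tail]
    have hzero : ∀ (x : Fin (n + 1) → Fˣ) (j : Fin n), symbol (x ∘ Equiv.swap 0 j.succ) = -symbol x := by
      intro x j
      cases n with
      | zero => exact j.elim0
      | succ m =>
        by_cases hj : j = 0
        · subst hj
          rw [Fin.succ_zero_eq_one, eq_neg_iff_add_eq_zero]
          exact swap01 x
        · have h1j : (1 : Fin (m + 2)) ≠ j.succ := by
            rw [← Fin.succ_zero_eq_one]; exact fun h => hj (Fin.succ_injective _ h).symm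
          have e : Equiv.swap (0 : Fin (m + 2)) j.succ =
              Equiv.swap 1 j.succ * Equiv.swap 0 1 * Equiv.swap 1 j.succ := by
            rw [Equiv.swap_mul_swap_mul_swap (by simp) (Ne.symm (Fin.succ_ne_zero j)), Equiv.swap_comm]
          rw [e, Equiv.Perm.coe_mul, Equiv.Perm.coe_mul, ← Function.comp_assoc, ← Function.comp_assoc,
            show (1 : Fin (m + 2)) = (0 : Fin (m + 1)).succ from Fin.succ_zero_eq_one.symm,
            hsucc _ _ _ (Ne.symm hj)]
          rw [Fin.succ_zero_eq_one, eq_neg_of_add_eq_zero_left (swap01 _), ← Fin.succ_zero_eq_one,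
            hsucc _ _ _ (Ne.symm hj), neg_neg]
    intro x i j hij
    cases i using Fin.cases with
    | zero =>
      cases j using Fin.cases with
      | zero => exact absurd rfl hij
      | succ j => exact hzero x j
    | succ i =>
      cases j using Fin.cases with
      | zero => rw [Equiv.swap_comm]; exact hzero x i
      | succ j => exact hsucc x i j fun h => hij (congrArg Fin.succ h)

theorem symbol_perm {n : ℕ} (σ : Equiv.Perm (Fin n)) :
    ∀ x : Fin n → Fˣ, symbol (x ∘ σ) = ((Equiv.Perm.sign σ : ℤˣ) : ℤ) • symbol x := by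
  induction σ using Equiv.Perm.swap_induction_on with
  | one => intro x; simp
  | swap_mul σ i j hij ih =>
    intro x
    rw [Equiv.Perm.coe_mul, ← Function.comp_assoc, ih, symbol_swap x hij, Equiv.Perm.sign_mul, Equiv.Perm.sign_swap hij]
    simp

/-- Define a map out of `K F (n + 1)` by recursion on the first entry. -/
noncomputable def recLift {n : ℕ} (Φ : Additive Fˣ →+ (K F n →+ M))
    (h : ∀ x : Fin (n + 1) → Fˣ, IsSteinberg F x → Φ (Additive.ofMul (x 0)) (symbol (Fin.tail x)) = 0) :
    K F (n + 1) →+ M :=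
  MilK.lift
    (LinearMap.uncurryLeft (AddMonoidHom.mk' (fun a => (Φ a).toIntLinearMap.compMultilinearMap (symML n))
      (fun a b => MultilinearMap.ext fun y => by simp)).toIntLinearMap)
    fun x hx => (LinearMap.uncurryLeft_apply _ _).trans (h x hx)

theorem recLift_cons {n : ℕ} (Φ : Additive Fˣ →+ (K F n →+ M))
    (h : ∀ x : Fin (n + 1) → Fˣ, IsSteinberg F x → Φ (Additive.ofMul (x 0)) (symbol (Fin.tail x)) = 0)
    (a : Fˣ) (z : K F n) : recLift Φ h (cons a z) = Φ (Additive.ofMul a) z := by
  have : (recLift Φ h).comp (cons a) = Φ (Additive.ofMul a) := hom_ext fun y => by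
    rw [AddMonoidHom.comp_apply, cons_symbol]
    refine (lift_symbol _ _ _).trans ((LinearMap.uncurryLeft_apply _ _).trans ?_)
    show Φ (Additive.ofMul ((Fin.cons a y : Fin (n + 1) → Fˣ) 0))
      (symbol (Fin.tail (Fin.cons a y : Fin (n + 1) → Fˣ))) = _
    rw [Fin.cons_zero, Fin.tail_cons]
  exact DFunLike.congr_fun this z

/-- Recursion on the first entry, for degree at least two: the Steinberg condition on the first two entries suffices. -/
theorem steinberg_of_two {n : ℕ} (Φ : Additive Fˣ →+ (K F (n + 1) →+ M))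
    (h : ∀ (a b : Fˣ), (a : F) + b = 1 → ∀ z, Φ (Additive.ofMul a) (cons b z) = 0)
    (x : Fin (n + 2) → Fˣ) (hx : IsSteinberg F x) : Φ (Additive.ofMul (x 0)) (symbol (Fin.tail x)) = 0 := by
  obtain ⟨i, j, hij, hsum⟩ := hx
  cases i using Fin.cases with
  | zero =>
    cases j using Fin.cases with
    | zero => exact absurd hij (lt_irrefl _)
    | succ k =>
      let y := Fin.tail x ∘ Equiv.swap 0 k
      have hy : symbol y = symbol (Fin.tail x) ∨ symbol y = -symbol (Fin.tail x) := by
        by_cases hk : k = 0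
        · subst hk; left; simp [y]
        · exact Or.inr (symbol_swap _ (Ne.symm hk))
      have h0 : Φ (Additive.ofMul (x 0)) (symbol y) = 0 := by
        rw [← Fin.cons_self_tail y, ← cons_symbol]
        exact h _ _ (by simpa [y, Fin.tail] using hsum) _
      rcases hy with hy | hy
      · rwa [hy] at h0
      · rwa [hy, map_neg, neg_eq_zero] at h0
  | succ i =>
    cases j using Fin.cases with
    | zero => exact absurd hij (by simp)
    | succ j =>
      rw [symbol_eq_zero_of_isSteinberg (Fin.tail x) ⟨i, j, Fin.succ_lt_succ_iff.mp hij, hsum⟩, map_zero]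

theorem mul_one_left {n : ℕ} (a : Fˣ) (z : K F n) :
    MilK.cast F (Nat.add_comm 1 n) (MilK.mul F 1 n (symbol ![a]) z) = cons a z := by
  have : ((MilK.cast F (Nat.add_comm 1 n)).toAddMonoidHom).comp (MilK.mul F 1 n (symbol ![a])) = cons a :=
    hom_ext fun x => by
      rw [AddMonoidHom.comp_apply, AddEquiv.coe_toAddMonoidHom, mul_symbol_symbol, cast_symbol, cons_symbol]
      congr 1
      funext i
      cases i using Fin.cases with
      | zero => exact Fin.append_left ![a] x 0
      | succ i =>
        rw [Fin.cons_succ, Function.comp_apply, show Fin.cast (Nat.add_comm 1 n).symm i.succ = Fin.natAdd 1 i from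
          Fin.ext (by simp [Nat.add_comm]), Fin.append_right]
  exact DFunLike.congr_fun this z

theorem symbol_nil (x y : Fin 0 → Fˣ) : (symbol x : K F 0) = symbol y := congrArg symbol (Subsingleton.elim x y)

theorem symbol_cons_tail {n : ℕ} (x : Fin (n + 1) → Fˣ) : symbol x = cons (x 0) (symbol (Fin.tail x)) := by
  rw [cons_symbol, Fin.cons_self_tail]

theorem symbol_pair (a b : Fˣ) : (symbol ![a, b] : K F 2) = cons a (cons b (symbol ![])) := by
  rw [cons_symbol, cons_symbol]; rfl

theorem map_cons {E : Type v} [Field E] (φ : F →+* E) {n : ℕ} (a : Fˣ) (z : K F n) :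
    MilK.map φ (n + 1) (cons a z) = cons (Units.map (φ : F →* E) a) (MilK.map φ n z) := by
  have : (MilK.map φ (n + 1)).comp (cons a) = (cons (Units.map (φ : F →* E) a)).comp (MilK.map φ n) := hom_ext fun x => by
    simp only [AddMonoidHom.comp_apply, cons_symbol, map_symbol]
    congr 1
    funext i
    cases i using Fin.cases <;> simp
  exact DFunLike.congr_fun this z

end MilKLib
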