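import Groth.Agent.MilKLib.Basic
import Mathlib.RingTheory.DiscreteValuationRing.Basic
import Mathlib.RingTheory.LocalRing.ResidueField.Basic

/-! Tame symbols and specialisation maps on Milnor K-groups. -/

set_option autoImplicit false

universe u v w

namespace MilKLib

open MilK

section Pair

variable {F : Type u} [Field F]

theorem symbol_eq_zero_of_one {n : ℕ} (x : Fin n → Fˣ) (i : Fin n) (h : x i = 1) : symbol x = 0 := by
  rw [← symML_apply]
  exact (symML n).map_coord_zero i (by rw [h]; rfl)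

theorem symbol_eq_zero_of_pair (P : Fˣ → Fˣ → Prop)
    (hP : ∀ a b, P a b → ∀ (n : ℕ) (z : K F n), cons a (cons b z) = 0)
    {n : ℕ} (x : Fin n → Fˣ) {i j : Fin n} (hij : i ≠ j) (h : P (x i) (x j)) : symbol x = 0 := by
  match n, x, i, j with
  | 0, x, i, _ => exact i.elim0
  | 1, x, i, j => exact absurd (Subsingleton.elim i j) hij
  | m + 2, x, i, j =>
    let y := x ∘ Equiv.swap 0 i
    obtain ⟨k, hk⟩ : ∃ k : Fin (m + 1), k.succ = Equiv.swap 0 i j :=
      Fin.exists_succ_eq.mpr fun h0 => hij (by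
        have := congrArg (Equiv.swap 0 i) h0
        rw [Equiv.swap_apply_self, Equiv.swap_apply_left] at this
        exact this.symm)
    have hyk : P (y 0) (y k.succ) := by
      simpa [y, hk] using h
    let t := Fin.tail y ∘ Equiv.swap 0 k
    have ht : symbol (Fin.cons (y 0) t : Fin (m + 2) → Fˣ) = 0 := by
      rw [← cons_symbol, symbol_cons_tail t]
      exact hP _ _ (by simpa [t, Fin.tail] using hyk) _ _
    have hy : symbol y = 0 := by
      rw [symbol_cons_tail y]
      rw [← cons_symbol] at ht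
      by_cases hk0 : k = 0
      · subst hk0; simpa [t] using ht
      · rw [show symbol t = -symbol (Fin.tail y) from symbol_swap _ (Ne.symm hk0), map_neg, neg_eq_zero] at ht
        exact ht
    by_cases hi : i = 0
    · subst hi; simpa [y] using hy
    · rw [show symbol y = -symbol x from symbol_swap _ (Ne.symm hi), neg_eq_zero] at hy
      exact hy

theorem cons_cons_inv_inv {n : ℕ} {a b : Fˣ} (h : (a : F) + b = 1) (z : K F n) : cons a⁻¹ (cons b⁻¹ z) = 0 := by
  rw [cons_inv, cons_inv, map_neg, cons_cons_eq_zero h, neg_zero, neg_zero]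

end Pair

variable {A : Type u} [CommRing A] [IsDomain A] [IsDiscreteValuationRing A]
  {L : Type v} [Field L] [Algebra A L] [IsFractionRing A L] {ϖ : A} (hϖ : Irreducible ϖ)

local notation "κ" => IsLocalRing.ResidueField A

variable (L) in
/-- The uniformiser as a unit of the fraction field. -/
noncomputable abbrev pU : Lˣ := MilK.unitFrac A L ϖ hϖ.ne_zero

variable (L) in
/-- The decomposition map. -/
noncomputable def pairMap : Multiplicative ℤ × Aˣ →* Lˣ :=
  (zpowersHom Lˣ (pU L hϖ)).coprod (unitToFrac A L)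

theorem pairMap_apply (e : ℤ) (u : Aˣ) :
    pairMap L hϖ (Multiplicative.ofAdd e, u) = pU L hϖ ^ e * unitToFrac A L u := by
  simp [pairMap]

theorem pairMap_bijective : Function.Bijective (pairMap L hϖ) := by
  constructor
  · rw [injective_iff_map_eq_one]
    rintro ⟨e, u⟩ h
    obtain ⟨e, rfl⟩ := Multiplicative.ofAdd.surjective e
    rw [pairMap_apply] at h
    have key : ∀ (m : ℕ) (v : Aˣ), pU L hϖ ^ (m : ℤ) * unitToFrac A L v = 1 → m = 0 ∧ v = 1 := by
      intro m v hv
      have h' : ϖ ^ m * (v : A) = 1 := IsFractionRing.injective A L (by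
        have := congrArg (fun t : Lˣ => (t : L)) hv
        simpa [unitToFrac, Units.val_mul, Units.val_pow_eq_pow_val] using this)
      have hm : m = 0 := by
        by_contra hm
        exact hϖ.not_isUnit ((isUnit_pow_iff hm).mp (IsUnit.of_mul_eq_one _ h'))
      subst hm
      rw [pow_zero, one_mul] at h'
      exact ⟨rfl, Units.ext h'⟩
    rcases Int.eq_nat_or_neg e with ⟨m, rfl | rfl⟩
    · obtain ⟨rfl, rfl⟩ := key m u h
      rfl
    · obtain ⟨rfl, h2⟩ := key m u⁻¹ (by
        rw [map_inv, ← inv_inj, mul_inv_rev, inv_inv, inv_one, ← zpow_neg, mul_comm]; exact h)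
      rw [inv_eq_one] at h2
      subst h2
      rfl
  · intro x
    obtain ⟨a, b, hb, hab⟩ := IsFractionRing.div_surjective A (x : L)
    have hb' : b ≠ 0 := nonZeroDivisors.ne_zero hb
    have ha' : a ≠ 0 := fun h => x.ne_zero (by rw [← hab, h, map_zero, zero_div])
    obtain ⟨m, u, rfl⟩ := IsDiscreteValuationRing.eq_unit_mul_pow_irreducible ha' hϖ
    obtain ⟨l, v, rfl⟩ := IsDiscreteValuationRing.eq_unit_mul_pow_irreducible hb' hϖ
    refine ⟨(Multiplicative.ofAdd ((m : ℤ) - l), u * v⁻¹), Units.ext ?_⟩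
    rw [pairMap_apply, ← hab, map_mul, map_inv, zpow_sub, zpow_natCast, zpow_natCast]
    simp [unitToFrac]
    field_simp

variable (L) in
/-- The decomposition of the units of the fraction field. -/
noncomputable def pairEquiv : Lˣ ≃* Multiplicative ℤ × Aˣ :=
  (MulEquiv.ofBijective (pairMap L hϖ) (pairMap_bijective hϖ)).symm

variable (L) in
/-- The order. -/
noncomputable def ordH : Additive Lˣ →+ ℤ :=
  MonoidHom.toAdditiveLeft ((MonoidHom.fst _ _).comp (pairEquiv L hϖ).toMonoidHom)

/-- The order of a unit of `L`. -/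
noncomputable def ord (x : Lˣ) : ℤ := ordH L hϖ (Additive.ofMul x)

variable (L) in
/-- The residue of the unit part. -/
noncomputable def rs : Lˣ →* κˣ :=
  (unitResidue A).comp ((MonoidHom.snd _ _).comp (pairEquiv L hϖ).toMonoidHom)

theorem pairEquiv_mk (e : ℤ) (u : Aˣ) :
    pairEquiv L hϖ (pU L hϖ ^ e * unitToFrac A L u) = (Multiplicative.ofAdd e, u) := by
  rw [← pairMap_apply]
  exact MulEquiv.symm_apply_apply _ _

theorem ord_mk (e : ℤ) (u : Aˣ) : ord hϖ (pU L hϖ ^ e * unitToFrac A L u) = e := by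
  simp [ord, ordH, pairEquiv_mk]

theorem rs_mk (e : ℤ) (u : Aˣ) : rs L hϖ (pU L hϖ ^ e * unitToFrac A L u) = unitResidue A u := by
  simp [rs, pairEquiv_mk]

theorem exists_decomp (x : Lˣ) : ∃ (e : ℤ) (u : Aˣ), x = pU L hϖ ^ e * unitToFrac A L u := by
  obtain ⟨⟨e, u⟩, rfl⟩ := (pairMap_bijective (L := L) hϖ).2 x
  exact ⟨Multiplicative.toAdd e, u, pairMap_apply hϖ _ u⟩

theorem ord_unit (u : Aˣ) : ord hϖ (unitToFrac A L u) = 0 := by
  simpa using ord_mk (L := L) hϖ 0 u

theorem rs_unit (u : Aˣ) : rs L hϖ (unitToFrac A L u) = unitResidue A u := by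
  simpa using rs_mk (L := L) hϖ 0 u

theorem ord_pU : ord hϖ (pU L hϖ) = 1 := by simpa using ord_mk (L := L) hϖ 1 1

theorem rs_pU : rs L hϖ (pU L hϖ) = 1 := by simpa using rs_mk (L := L) hϖ 1 1

theorem ord_irreducible {π : A} (hπ : Irreducible π) : ord hϖ (pU L hπ) = 1 := by
  obtain ⟨u, hu⟩ := (IsDiscreteValuationRing.associated_of_irreducible A hϖ hπ)
  rw [show pU L hπ = pU L hϖ ^ (1 : ℤ) * unitToFrac A L u from Units.ext (by simp [← hu, unitToFrac]), ord_mk]

theorem val_mk (e : ℤ) (u : Aˣ) :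
    ((pU L hϖ ^ e * unitToFrac A L u : Lˣ) : L) = algebraMap A L ϖ ^ e * algebraMap A L u := by
  simp [unitToFrac, Units.val_zpow_eq_zpow_val]

theorem unitResidue_surjective : Function.Surjective (unitResidue A) := fun c => by
  obtain ⟨a, ha⟩ := IsLocalRing.residue_surjective (c : κ)
  have : IsUnit a := (IsLocalRing.residue_ne_zero_iff_isUnit a).mp (by rw [ha]; exact c.ne_zero)
  exact ⟨this.unit, Units.ext ha⟩

theorem cases_of_add_eq_one (x y : Lˣ) (h : (x : L) + y = 1) :
    (ord hϖ x = 0 ∧ ord hϖ y = 0 ∧ (rs L hϖ x : κ) + rs L hϖ y = 1) ∨ (rs L hϖ y = 1 ∧ ord hϖ y = 0) ∨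
      (rs L hϖ x = 1 ∧ ord hϖ x = 0) ∨ (ord hϖ x = ord hϖ y ∧ rs L hϖ y = -rs L hϖ x) := by
  obtain ⟨a, u, rfl⟩ := exists_decomp (L := L) hϖ x
  obtain ⟨b, v, rfl⟩ := exists_decomp (L := L) hϖ y
  simp only [ord_mk, rs_mk]
  have hpos : ∀ (m : ℕ) (u : Aˣ) (b : ℤ) (v : Aˣ), 0 < m →
      ((pU L hϖ ^ (m : ℤ) * unitToFrac A L u : Lˣ) : L) + (pU L hϖ ^ b * unitToFrac A L v : Lˣ) = 1 →
      unitResidue A v = 1 ∧ b = 0 := by
    intro m u b v hm h
    have hu : IsUnit (1 - ϖ ^ m * (u : A)) := by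
      refine (IsLocalRing.residue_ne_zero_iff_isUnit _).mp ?_
      rw [map_sub, map_one, map_mul, map_pow, show IsLocalRing.residue A ϖ = 0 from
        Ideal.Quotient.eq_zero_iff_mem.mpr ((IsLocalRing.mem_maximalIdeal _).mpr hϖ.not_isUnit), zero_pow hm.ne',
        zero_mul, sub_zero]
      exact one_ne_zero
    have e : pU L hϖ ^ b * unitToFrac A L v = pU L hϖ ^ (0 : ℤ) * unitToFrac A L hu.unit := by
      refine Units.ext ?_
      rw [eq_sub_of_add_eq' h]
      simp [unitToFrac]
    have h1 := congrArg (rs L hϖ) e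
    have h2 := congrArg (ord hϖ) e
    rw [rs_mk, rs_mk] at h1
    rw [ord_mk, ord_mk] at h2
    refine ⟨h1.trans (Units.ext ?_), h2⟩
    show IsLocalRing.residue A (1 - ϖ ^ m * (u : A)) = 1
    rw [map_sub, map_one, map_mul, map_pow, show IsLocalRing.residue A ϖ = 0 from
      Ideal.Quotient.eq_zero_iff_mem.mpr ((IsLocalRing.mem_maximalIdeal _).mpr hϖ.not_isUnit), zero_pow hm.ne',
      zero_mul, sub_zero]
  rcases lt_trichotomy a 0 with ha | rfl | ha
  · rcases lt_trichotomy b 0 with hb | rfl | hb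
    · refine Or.inr (Or.inr (Or.inr ?_))
      have key : ∀ (a b : ℤ) (u v : Aˣ), a < 0 → a ≤ b →
          ((pU L hϖ ^ a * unitToFrac A L u : Lˣ) : L) + (pU L hϖ ^ b * unitToFrac A L v : Lˣ) = 1 →
          a = b ∧ unitResidue A v = -unitResidue A u := by
        intro a b u v ha hab h
        obtain ⟨m, hm⟩ := Int.eq_ofNat_of_zero_le (by omega : (0 : ℤ) ≤ -a)
        obtain ⟨l, hl⟩ := Int.eq_ofNat_of_zero_le (sub_nonneg.mpr hab)
        have hne : (ϖ : A) ≠ 0 := hϖ.ne_zero
        have e : (u : A) + ϖ ^ l * (v : A) = ϖ ^ m := IsFractionRing.injective A L (by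
          have hp : algebraMap A L ϖ ≠ 0 := (pU L hϖ).ne_zero
          rw [show b = (l : ℤ) - (m : ℤ) by omega, show a = -(m : ℤ) by omega] at h
          rw [val_mk, val_mk] at h
          simp only [zpow_sub₀ hp, zpow_neg, zpow_natCast] at h
          simp only [map_add, map_mul, map_pow]
          field_simp at h
          linear_combination h)
        have hres := congrArg (IsLocalRing.residue A) e
        have hϖ0 : IsLocalRing.residue A ϖ = 0 :=
          Ideal.Quotient.eq_zero_iff_mem.mpr ((IsLocalRing.mem_maximalIdeal _).mpr hϖ.not_isUnit)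
        rw [map_add, map_mul, map_pow, map_pow, hϖ0, zero_pow (show m ≠ 0 by omega)] at hres
        have hl0 : l = 0 := by
          by_contra hl0
          rw [zero_pow hl0, zero_mul, add_zero] at hres
          exact (IsLocalRing.residue_ne_zero_iff_isUnit _).mpr u.isUnit hres
        subst hl0
        rw [pow_zero, one_mul] at hres
        exact ⟨by omega, Units.ext (eq_neg_of_add_eq_zero_right hres)⟩
      rcases le_total a b with hab | hab
      · exact key a b u v ha hab h
      · obtain ⟨h1, h2⟩ := key b a v u hb hab (by rw [add_comm]; exact h)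
        exact ⟨h1.symm, by rw [h2, neg_neg]⟩
    · exfalso
      obtain ⟨m, hm⟩ := Int.eq_ofNat_of_zero_le (by omega : (0 : ℤ) ≤ -a)
      have hp : algebraMap A L ϖ ≠ 0 := (pU L hϖ).ne_zero
      have e : (u : A) + ϖ ^ m * (v : A) = ϖ ^ m := IsFractionRing.injective A L (by
        rw [show a = -(m : ℤ) by omega] at h
        rw [val_mk, val_mk] at h
        simp only [zpow_neg, zpow_natCast, zpow_zero, one_mul] at h
        simp only [map_add, map_mul, map_pow]
        field_simp at h
        linear_combination h)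
      exact hϖ.not_isUnit (isUnit_of_dvd_unit (show ϖ ∣ (u : A) from (dvd_pow_self ϖ (show m ≠ 0 by omega)).trans
        ⟨1 - (v : A), by linear_combination e⟩) u.isUnit)
    · obtain ⟨m, rfl⟩ := Int.eq_ofNat_of_zero_le hb.le
      exact Or.inr (Or.inr (Or.inl (hpos m v a u (by omega) (by rw [add_comm]; exact h))))
  · rcases lt_trichotomy b 0 with hb | rfl | hb
    · exfalso
      obtain ⟨m, hm⟩ := Int.eq_ofNat_of_zero_le (by omega : (0 : ℤ) ≤ -b)
      have hp : algebraMap A L ϖ ≠ 0 := (pU L hϖ).ne_zero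
      have e : ϖ ^ m * (u : A) + (v : A) = ϖ ^ m := IsFractionRing.injective A L (by
        rw [show b = -(m : ℤ) by omega] at h
        rw [val_mk, val_mk] at h
        simp only [zpow_neg, zpow_natCast, zpow_zero, one_mul] at h
        simp only [map_add, map_mul, map_pow]
        field_simp at h
        linear_combination h)
      exact hϖ.not_isUnit (isUnit_of_dvd_unit (show ϖ ∣ (v : A) from (dvd_pow_self ϖ (show m ≠ 0 by omega)).trans
        ⟨1 - (u : A), by linear_combination e⟩) v.isUnit)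
    · refine Or.inl ⟨rfl, rfl, ?_⟩
      have e : (u : A) + v = 1 := IsFractionRing.injective A L (by simpa [unitToFrac] using h)
      show IsLocalRing.residue A u + IsLocalRing.residue A v = 1
      rw [← map_add, e, map_one]
    · obtain ⟨m, rfl⟩ := Int.eq_ofNat_of_zero_le hb.le
      exact Or.inr (Or.inr (Or.inl (hpos m v 0 u (by omega) (by rw [add_comm]; exact h))))
  · obtain ⟨m, rfl⟩ := Int.eq_ofNat_of_zero_le ha.le
    exact Or.inr (Or.inl (hpos m u b v (by omega) h))

variable (L) in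
/-- The specialisation map. -/
noncomputable def S (n : ℕ) : K L n →+ K κ n :=
  MilK.lift ((symML n).compLinearMap fun _ => (MonoidHom.toAdditive (rs L hϖ)).toIntLinearMap) fun x hx => by
    show symbol (fun i => rs L hϖ (x i)) = 0
    obtain ⟨i, j, hij, h⟩ := hx
    rcases cases_of_add_eq_one hϖ _ _ h with ⟨-, -, h1⟩ | ⟨h1, -⟩ | ⟨h1, -⟩ | ⟨-, h1⟩
    · exact symbol_eq_zero_of_isSteinberg _ ⟨i, j, hij, h1⟩
    · exact symbol_eq_zero_of_one _ j h1
    · exact symbol_eq_zero_of_one _ i h1
    · exact symbol_eq_zero_of_pair (fun a b => b = -a)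
        (fun a b hb n z => by rw [show b = -a from hb]; exact cons_cons_neg a z) _ hij.ne h1

theorem S_symbol {n : ℕ} (x : Fin n → Lˣ) : S L hϖ n (symbol x) = symbol fun i => rs L hϖ (x i) :=
  (lift_symbol _ _ _).trans rfl

theorem S_cons {n : ℕ} (a : Lˣ) (z : K L n) : S L hϖ (n + 1) (cons a z) = cons (rs L hϖ a) (S L hϖ n z) := by
  have : (S L hϖ (n + 1)).comp (cons a) = (cons (rs L hϖ a)).comp (S L hϖ n) := hom_ext fun x => by
    simp only [AddMonoidHom.comp_apply, cons_symbol, S_symbol]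
    congr 1
    funext i
    cases i using Fin.cases <;> simp
  exact DFunLike.congr_fun this z

variable (L) in
/-- The twisting character. -/
noncomputable def chi : Lˣ →* κˣ where
  toFun x := (-1) ^ ord hϖ x * (rs L hϖ x)⁻¹
  map_one' := by simp [ord]
  map_mul' x y := by
    have : ord hϖ (x * y) = ord hϖ x + ord hϖ y := by simp [ord]
    rw [this, zpow_add, map_mul, mul_inv]
    exact mul_mul_mul_comm _ _ _ _

theorem chi_apply (x : Lˣ) : chi L hϖ x = (-1) ^ ord hϖ x * (rs L hϖ x)⁻¹ := rfl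

variable (L) in
/-- The property used in the recursion. -/
def DProp (n : ℕ) (D : K L (n + 1) →+ K κ n) : Prop :=
  ∀ (a : κˣ) (x : Lˣ) (z : K L n), (∀ (m : ℕ) (w : K κ m), cons a (cons (chi L hϖ x) w) = 0) →
    cons a (D (cons x z)) = ord hϖ x • cons a (S L hϖ n z)

variable (L) in
/-- First term of the recursion. -/
noncomputable def phi0 : Additive Lˣ →+ (K L 0 →+ K κ 0) :=
  (zmultiplesHom _ (S L hϖ 0)).comp (ordH L hϖ)

variable (L) in
/-- Next terms of the recursion. -/
noncomputable def phiSucc (n : ℕ) (D : K L (n + 1) →+ K κ n) : Additive Lˣ →+ (K L (n + 1) →+ K κ (n + 1)) :=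
  (zmultiplesHom _ (S L hϖ (n + 1))).comp (ordH L hϖ) +
    AddMonoidHom.mk' (fun a => (cons (chi L hϖ a.toMul)).comp D) fun a b => AddMonoidHom.ext fun z => by
      simp [cons_mul]

theorem phiSucc_apply (n : ℕ) (D : K L (n + 1) →+ K κ n) (x : Lˣ) (z : K L (n + 1)) :
    phiSucc L hϖ n D (Additive.ofMul x) z = ord hϖ x • S L hϖ (n + 1) z + cons (chi L hϖ x) (D z) := rfl

theorem phiSucc_steinberg (n : ℕ) (D : K L (n + 1) →+ K κ n) (hD : DProp L hϖ n D) (a b : Lˣ)
    (h : (a : L) + b = 1) (z : K L n) : phiSucc L hϖ n D (Additive.ofMul a) (cons b z) = 0 := by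
  rw [phiSucc_apply, S_cons]
  have e := fun hpair => hD (chi L hϖ a) b z hpair
  rcases cases_of_add_eq_one hϖ a b h with ⟨ha, hb, h1⟩ | ⟨h1, hb⟩ | ⟨h1, ha⟩ | ⟨hab, h1⟩
  · rw [e fun m w => by
      simp only [chi_apply, ha, hb, zpow_zero, one_mul]
      exact cons_cons_inv_inv h1 w, ha, hb, zero_zsmul, zero_zsmul, add_zero]
  · rw [e fun m w => by simp [chi_apply, hb, h1], hb, h1]
    simp
  · have : chi L hϖ a = 1 := by simp [chi_apply, ha, h1]
    rw [this, ha]
    simp
  · have hchi : chi L hϖ b = -chi L hϖ a := by simp [chi_apply, ← hab, h1]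
    rw [e fun m w => by rw [hchi]; exact cons_cons_neg _ w, ← hab, ← smul_add, ← cons_mul, h1, ← cons_zpow]
    have : (-rs L hϖ a * chi L hϖ a) ^ ord hϖ a = 1 := by
      rw [chi_apply, neg_mul, mul_left_comm, mul_inv_cancel, mul_one, ← neg_one_mul, mul_zpow, ← zpow_mul, ← zpow_add]
      exact Even.neg_one_zpow (by have := Int.even_mul_succ_self (ord hϖ a); rwa [mul_add, mul_one, add_comm] at this)
    rw [this, cons_one]

variable (L) in
/-- The tame symbol in all degrees. -/
noncomputable def DD : ∀ n : ℕ, {D : K L (n + 1) →+ K κ n // DProp L hϖ n D}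
  | 0 => ⟨recLift (phi0 L hϖ) fun x hx => absurd hx fun ⟨i, j, hij, _⟩ => by have := i.isLt; have := j.isLt; rw [Fin.lt_def] at hij; omega,
      fun a x z _ => by rw [recLift_cons]; exact map_zsmul (cons a) _ _⟩
  | n + 1 => ⟨recLift (phiSucc L hϖ n (DD n).1)
      (steinberg_of_two _ (fun a b h z => phiSucc_steinberg hϖ n (DD n).1 (DD n).2 a b h z)),
      fun a x z h => by rw [recLift_cons, phiSucc_apply, map_add, map_zsmul, h, add_zero]⟩

variable (L) in
/-- The tame symbol. -/
noncomputable abbrev D (n : ℕ) : K L (n + 1) →+ K κ n := (DD L hϖ n).1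

theorem D_zero_cons (x : Lˣ) (z : K L 0) : D L hϖ 0 (cons x z) = ord hϖ x • S L hϖ 0 z := by
  show (DD L hϖ 0).1 (cons x z) = _
  simp only [DD, recLift_cons]
  rfl

theorem D_succ_cons (n : ℕ) (x : Lˣ) (z : K L (n + 1)) :
    D L hϖ (n + 1) (cons x z) = ord hϖ x • S L hϖ (n + 1) z + cons (chi L hϖ x) (D L hϖ n z) := by
  show (DD L hϖ (n + 1)).1 (cons x z) = _
  simp only [DD, recLift_cons, phiSucc_apply]

theorem D_units : ∀ (n : ℕ) (u : Fin (n + 1) → Aˣ), D L hϖ n (symbol fun i => unitToFrac A L (u i)) = 0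
  | 0, u => by rw [symbol_cons_tail, D_zero_cons, ord_unit, zero_zsmul]
  | n + 1, u => by
    rw [symbol_cons_tail, D_succ_cons, ord_unit, zero_zsmul, zero_add]
    exact (congrArg _ (D_units n fun i => u i.succ)).trans (map_zero _)

theorem S_units {n : ℕ} (u : Fin n → Aˣ) :
    S L hϖ n (symbol fun i => unitToFrac A L (u i)) = symbol fun i => unitResidue A (u i) := by
  rw [S_symbol]; simp only [rs_unit]

theorem isTame_D (n : ℕ) : IsTameSymbol A L n (D L hϖ n) := by
  intro π hπ u
  rw [← cons_symbol]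
  cases n with
  | zero =>
    rw [D_zero_cons, ord_irreducible hϖ hπ, one_zsmul, S_units]
  | succ n =>
    rw [D_succ_cons, ord_irreducible hϖ hπ, one_zsmul, S_units, D_units, map_zero, add_zero]

theorem isSpec_S (n : ℕ) : IsSpecMap A L ϖ hϖ n (S L hϖ n) := by
  intro e u
  rw [S_symbol]
  simp only [rs_mk]

variable (L) in
/-- Symbols of units. -/
def unitSyms (n : ℕ) : Set (K L n) := {z | ∃ u : Fin n → Aˣ, z = symbol fun i => unitToFrac A L (u i)}

variable (L) in
/-- The generators. -/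
def gens (n : ℕ) : Set (K L (n + 1)) := cons (pU L hϖ) '' unitSyms (A := A) L n ∪ unitSyms (A := A) L (n + 1)

theorem cons_unit_mem (n : ℕ) (u : Aˣ) {z : K L n} (hz : z ∈ unitSyms (A := A) L n) :
    cons (unitToFrac A L u) z ∈ unitSyms (A := A) L (n + 1) := by
  obtain ⟨w, rfl⟩ := hz
  exact ⟨Fin.cons u w, by rw [cons_symbol]; congr 1; funext i; cases i using Fin.cases <;> simp⟩

theorem mem_gens : ∀ (n : ℕ) (z : K L (n + 1)), z ∈ AddSubgroup.closure (gens L hϖ n) := by
  intro n
  induction n with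
  | zero =>
    refine fun z => mem_of_symbols (fun x => ?_) z
    obtain ⟨e, u, he⟩ := exists_decomp (L := L) hϖ (x 0)
    have h0 : symbol (Fin.tail x) ∈ unitSyms (A := A) L 0 := ⟨Fin.elim0, symbol_nil _ _⟩
    rw [symbol_cons_tail, he, cons_mul, cons_zpow]
    exact add_mem (zsmul_mem (AddSubgroup.subset_closure (Set.mem_union_left _ (Set.mem_image_of_mem _ h0))) _)
      (AddSubgroup.subset_closure (Set.mem_union_right _ (cons_unit_mem _ u h0)))
  | succ n ih =>
    refine fun z => mem_of_symbols (fun x => ?_) z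
    obtain ⟨e, u, he⟩ := exists_decomp (L := L) hϖ (x 0)
    rw [symbol_cons_tail, he, cons_mul, cons_zpow]
    have ht := ih (symbol (Fin.tail x))
    suffices H : cons (pU L hϖ) (symbol (Fin.tail x)) ∈ AddSubgroup.closure (gens L hϖ (n + 1)) ∧
        cons (unitToFrac A L u) (symbol (Fin.tail x)) ∈ AddSubgroup.closure (gens L hϖ (n + 1)) from
      add_mem (zsmul_mem H.1 _) H.2
    constructor
    · refine (AddSubgroup.closure_le (K := (AddSubgroup.closure (gens L hϖ (n + 1))).comap (cons (pU L hϖ)))).mpr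
        ?_ ht
      rintro _ (⟨w, hw, rfl⟩ | hw)
      · rw [SetLike.mem_coe, AddSubgroup.mem_comap]
        rw [cons_cons_self, show (-1 : Lˣ) = unitToFrac A L (-1) from Units.ext (by simp [unitToFrac])]
        exact AddSubgroup.subset_closure (Set.mem_union_left _ (Set.mem_image_of_mem _ (cons_unit_mem _ _ hw)))
      · exact AddSubgroup.subset_closure (Set.mem_union_left _ (Set.mem_image_of_mem _ (hw)))
    · refine (AddSubgroup.closure_le (K := (AddSubgroup.closure (gens L hϖ (n + 1))).comap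
        (cons (unitToFrac A L u)))).mpr ?_ ht
      rintro _ (⟨w, hw, rfl⟩ | hw)
      · rw [SetLike.mem_coe, AddSubgroup.mem_comap]
        rw [cons_cons_comm]
        exact neg_mem (AddSubgroup.subset_closure (Set.mem_union_left _ (Set.mem_image_of_mem _ (cons_unit_mem _ _ hw))))
      · exact AddSubgroup.subset_closure (Set.mem_union_right _ (cons_unit_mem _ _ hw))

theorem tame_apply_units {n : ℕ} {d : K L (n + 1) →+ K κ n} (hd : IsTameSymbol A L n d) (hϖ : Irreducible ϖ)
    (u : Fin (n + 1) → Aˣ) : d (symbol fun i => unitToFrac A L (u i)) = 0 := by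
  have hπ : Irreducible (ϖ * (u 0 : A)) :=
    (associated_mul_unit_right ϖ _ (u 0).isUnit).irreducible hϖ
  have e : unitToFrac A L (u 0) = pU L hπ / pU L hϖ := by
    rw [eq_div_iff_mul_eq']
    exact Units.ext (by simp [unitToFrac, mul_comm])
  rw [symbol_cons_tail, e, cons_div, map_sub]
  show d (cons _ (symbol fun i => unitToFrac A L (u i.succ))) - d (cons _ (symbol fun i => unitToFrac A L (u i.succ))) = 0
  rw [cons_symbol, cons_symbol, hd _ hπ, hd _ hϖ, sub_self]

theorem tame_eq_D {n : ℕ} {d : K L (n + 1) →+ K κ n} (hd : IsTameSymbol A L n d) : d = D L hϖ n := by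
  refine AddMonoidHom.ext fun z => ?_
  have h : ∀ g ∈ gens L hϖ n, d g = D L hϖ n g := by
    rintro _ (⟨_, ⟨u, rfl⟩, rfl⟩ | ⟨u, rfl⟩)
    · rw [cons_symbol, hd _ hϖ, isTame_D hϖ n _ hϖ]
    · rw [tame_apply_units hd hϖ, D_units]
  exact AddMonoidHom.eqOn_closure h (mem_gens hϖ n z)

theorem spec_eq_S {n : ℕ} {s : K L n →+ K κ n} (hs : IsSpecMap A L ϖ hϖ n s) : s = S L hϖ n := by
  refine hom_ext fun x => ?_
  choose e u he using fun i => exists_decomp (L := L) hϖ (x i)
  rw [show x = fun i => pU L hϖ ^ e i * unitToFrac A L (u i) from funext he, hs, isSpec_S hϖ n]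

theorem D_cons_neg_pU : ∀ (n : ℕ) (z : K L n), D L hϖ n (cons (-pU L hϖ) z) = S L hϖ n z := by
  have e : -pU L hϖ = pU L hϖ ^ (1 : ℤ) * unitToFrac A L (-1) := Units.ext (by simp [unitToFrac])
  have ho : ord hϖ (-pU L hϖ) = 1 := by rw [e, ord_mk]
  intro n z
  cases n with
  | zero => rw [D_zero_cons, ho, one_zsmul]
  | succ n =>
    have hc : chi L hϖ (-pU L hϖ) = 1 := by
      rw [chi_apply, ho, e, rs_mk]
      exact Units.ext (by simp [unitResidue])
    rw [D_succ_cons, ho, one_zsmul, hc, cons_one, add_zero]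

theorem D_cons_unit (n : ℕ) (u : Aˣ) (z : K L (n + 1)) :
    D L hϖ (n + 1) (cons (unitToFrac A L u) z) = -cons (unitResidue A u) (D L hϖ n z) := by
  rw [D_succ_cons, ord_unit, zero_zsmul, zero_add, chi_apply, ord_unit, rs_unit, zpow_zero, one_mul, cons_inv]

end MilKLib
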